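import Mathlib
import Groth.Agent.SymGr.RegLoc
import Groth.Agent.SymGr.FormalFibre
import Groth.Agent.Hensel.Fibres
import Groth.Agent.RegLocus.GeomMisc
import Groth.Prelude.Def_Found

/-!
# Regular maps and ind-étale algebras
-/

set_option autoImplicit false
universe u

open TensorProduct IsLocalRing

namespace Groth.Agent.GRingHens

/-- For a formally étale base change of fields, adic formal smoothness is unchanged. -/
theorem adicFS_of_formallyUnramified {k K S : Type u} [CommRing k] [CommRing K] [Algebra k K]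
    [Algebra.FormallyUnramified k K] [CommRing S] [Algebra k S] [Algebra K S] [IsScalarTower k K S]
    (n : Ideal S) (h : CAlgX.IsAdicFormallySmooth k S n) : CAlgX.IsAdicFormallySmooth K S n := by
  intro T _ _ J hJ ψ hψ
  letI : Algebra k T := ((algebraMap K T).comp (algebraMap k K)).toAlgebra
  have : IsScalarTower k K T := IsScalarTower.of_algebraMap_eq fun _ => rfl
  obtain ⟨σ, hσ⟩ := h T J hJ (ψ.restrictScalars k) hψ
  have e : σ.comp (IsScalarTower.toAlgHom k K S) = IsScalarTower.toAlgHom k K T := by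
    refine Algebra.FormallyUnramified.comp_injective (R := k) J hJ (AlgHom.ext fun x => ?_)
    show Ideal.Quotient.mk J (σ (algebraMap K S x)) = Ideal.Quotient.mk J (algebraMap K T x)
    exact (AlgHom.congr_fun hσ (algebraMap K S x)).trans (ψ.commutes x)
  exact ⟨{ σ.toRingHom with commutes' := fun x => AlgHom.congr_fun e x }, AlgHom.ext fun x => AlgHom.congr_fun hσ x⟩

variable {A B : Type u} [CommRing A] [CommRing B] [Algebra A B]

theorem finite_unramified_of_image {k K E : Type u} [Field k] [Field K] [Algebra k K] [CommRing E] [Algebra k E]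
    [Algebra.FormallyUnramified k E] [Module.Finite k E] (γ : E →ₐ[k] K) (F : IntermediateField k K) (h1 : ∀ e, γ e ∈ F)
    (h2 : ∀ x ∈ F, x ∈ Set.range γ) : Module.Finite k F ∧ Algebra.FormallyUnramified k F := by
  have hsurj : Function.Surjective (γ.codRestrict F.toSubalgebra h1 : E →ₐ[k] F) := fun ⟨y, hy⟩ => by
    obtain ⟨x, hx⟩ := h2 y hy
    exact ⟨x, Subtype.ext hx⟩
  exact ⟨Module.Finite.of_surjective (γ.codRestrict F.toSubalgebra h1 : E →ₐ[k] F).toLinearMap hsurj,
    Algebra.FormallyUnramified.of_surjective _ hsurj⟩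

theorem exists_field_image {k K E : Type u} [Field k] [Field K] [Algebra k K] [CommRing E] [Algebra k E]
    [Module.Finite k E] (γ : E →ₐ[k] K) :
    ∃ F : IntermediateField k K, (∀ e, γ e ∈ F) ∧ ∀ x ∈ F, x ∈ Set.range γ := by
  have : Module.Finite k γ.range :=
    Module.Finite.of_surjective γ.rangeRestrict.toLinearMap γ.rangeRestrict_surjective
  have : Algebra.IsIntegral k γ.range := Algebra.IsIntegral.of_finite k γ.range
  exact ⟨γ.range.toIntermediateField' (isField_of_isIntegral_of_isField' (R := k) (S := γ.range) (Field.toIsField k)),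
    fun e => ⟨e, rfl⟩, fun x hx => hx⟩

/-- Images of étale algebras over a field consist of separable elements. -/
theorem isSeparable_map {k K E : Type u} [Field k] [Field K] [Algebra k K] [CommRing E] [Algebra k E]
    [Algebra.Etale k E] (γ : E →ₐ[k] K) (e : E) : IsSeparable k (γ e) := by
  have : Module.Finite k E := Algebra.FormallyUnramified.finite_of_free k _
  obtain ⟨F, h1, h2⟩ := exists_field_image γ
  obtain ⟨hf, hu⟩ := finite_unramified_of_image γ F h1 h2
  have : Algebra.IsSeparable k F := (Algebra.FormallyUnramified.iff_isSeparable k F).mp inferInstance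
  have e' : F.val (⟨γ e, h1 e⟩ : F) = γ e := rfl
  rw [← e']
  exact IsSeparable.map F.val Subtype.val_injective (Algebra.IsSeparable.isSeparable k (⟨γ e, h1 e⟩ : F))

/-- Residue field extensions of unions of étale algebras are separable. -/
theorem isSeparable_residueField (hB : ∀ s : Finset B, ∃ (E : Type u) (_ : CommRing E) (_ : Algebra A E) (φ : E →ₐ[A] B),
      Algebra.Etale A E ∧ ∀ x ∈ s, x ∈ φ.range)
    (p : Ideal A) [p.IsPrime] (P : Ideal B) [P.IsPrime] [Algebra p.ResidueField P.ResidueField]
    [IsScalarTower A p.ResidueField P.ResidueField] : Algebra.IsSeparable p.ResidueField P.ResidueField := by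
  classical
  let k := p.ResidueField
  let K := P.ResidueField
  have hb : ∀ b : B, IsSeparable k (algebraMap B K b) := fun b => by
    obtain ⟨E, _, _, φ, hE, hφ⟩ := hB {b}
    obtain ⟨e, he⟩ := hφ b (by simp)
    let γ : k ⊗[A] E →ₐ[k] K := Algebra.TensorProduct.lift (Algebra.ofId k K)
      ((IsScalarTower.toAlgHom A B K).comp φ) fun _ _ => Commute.all _ _
    have h1 : γ (1 ⊗ₜ e) = algebraMap B K b := by
      rw [Algebra.TensorProduct.lift_tmul, map_one, one_mul, ← he]
      rfl
    rw [← h1]
    exact isSeparable_map γ (1 ⊗ₜ e)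
  refine ⟨fun x => ?_⟩
  obtain ⟨y, rfl⟩ := IsLocalRing.residue_surjective x
  obtain ⟨b, s, rfl⟩ := IsLocalization.exists_mk'_eq P.primeCompl y
  have hs : algebraMap B K (s : B) ≠ 0 := fun h => s.2 (Ideal.algebraMap_residueField_eq_zero.1 h)
  have e : IsLocalRing.residue _ (IsLocalization.mk' (Localization.AtPrime P) b s) =
      algebraMap B K b * (algebraMap B K (s : B))⁻¹ := by
    rw [eq_mul_inv_iff_mul_eq₀ hs]
    show _ * IsLocalRing.residue _ (algebraMap B _ (s : B)) = IsLocalRing.residue _ (algebraMap B _ b)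
    rw [← map_mul, IsLocalization.mk'_spec]
  rw [e]
  have : Algebra.IsSeparable k (IntermediateField.adjoin k ({algebraMap B K b, algebraMap B K (s : B)} : Set K)) :=
    (IntermediateField.isSeparable_adjoin_iff_isSeparable k K).2 fun z hz => by
      rcases hz with rfl | rfl
      exacts [hb b, hb s]
  let F := IntermediateField.adjoin k ({algebraMap B K b, algebraMap B K (s : B)} : Set K)
  have hmem : algebraMap B K b * (algebraMap B K (s : B))⁻¹ ∈ F :=
    mul_mem (IntermediateField.subset_adjoin k _ (Or.inl rfl)) (inv_mem (IntermediateField.subset_adjoin k _ (Or.inr rfl)))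
  have e' : F.val (⟨_, hmem⟩ : F) = algebraMap B K b * (algebraMap B K (s : B))⁻¹ := rfl
  rw [← e']
  exact IsSeparable.map F.val Subtype.val_injective (Algebra.IsSeparable.isSeparable k (⟨_, hmem⟩ : F))

/-- In a fibre, elements vanishing at a prime are killed by elements off the prime. -/
theorem exists_ann [IsNoetherianRing B] (hB : ∀ s : Finset B, ∃ (E : Type u) (_ : CommRing E) (_ : Algebra A E) (φ : E →ₐ[A] B),
      Algebra.Etale A E ∧ ∀ x ∈ s, x ∈ φ.range)
    (p : Ideal A) [p.IsPrime] (P : Ideal B) [P.IsPrime] [P.LiesOver p] (ρ : p.Fiber B →ₐ[A] P.ResidueField)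
    (hρ : ∀ b : B, ρ (1 ⊗ₜ b) = algebraMap B P.ResidueField b) (x : p.Fiber B) (hx : ρ x = 0) :
    ∃ b : B, b ∉ P ∧ (1 ⊗ₜ b) * x = 0 := by
  have := Hensel.isNoetherianRing_fibre p B
  obtain ⟨n, K, _, _, -, ⟨e⟩⟩ := Hensel.fibre_equiv_pi (R := A) (S := B) p.ResidueField hB
  let y : p.Fiber B := e.symm fun i => (e x i)⁻¹
  have hxy : x * (1 - x * y) = 0 := e.injective (funext fun i => by
    simp only [y, map_mul, map_sub, map_one, map_zero, AlgEquiv.apply_symm_apply, Pi.mul_apply, Pi.sub_apply,
      Pi.one_apply, Pi.zero_apply]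
    rcases eq_or_ne (e x i) 0 with h | h
    · rw [h, zero_mul]
    · rw [mul_inv_cancel₀ h, sub_self, mul_zero])
  have hrep : ∀ u : p.Fiber B, ∃ a : A, a ∉ p ∧ ∃ b : B, algebraMap A (p.Fiber B) a * u = 1 ⊗ₜ b := fun u => by
    induction u using TensorProduct.induction_on with
    | zero => exact ⟨1, fun h => ‹p.IsPrime›.ne_top ((Ideal.eq_top_iff_one p).2 h), 0, by rw [mul_zero, tmul_zero]⟩
    | tmul c b =>
      obtain ⟨z, rfl⟩ := IsLocalRing.residue_surjective c
      obtain ⟨r, s, rfl⟩ := IsLocalization.exists_mk'_eq p.primeCompl z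
      refine ⟨s, s.2, r • b, ?_⟩
      rw [← Algebra.smul_def, TensorProduct.smul_tmul', TensorProduct.tmul_smul, TensorProduct.smul_tmul']
      congr 1
      rw [Algebra.smul_def, Algebra.smul_def, mul_one]
      show IsLocalRing.residue _ (algebraMap A _ (s : A)) * _ = IsLocalRing.residue _ (algebraMap A _ r)
      rw [← map_mul, mul_comm, IsLocalization.mk'_spec]
    | add u v hu hv =>
      obtain ⟨a, ha, b, hb⟩ := hu
      obtain ⟨a', ha', b', hb'⟩ := hv
      refine ⟨a * a', fun h => (‹p.IsPrime›.mem_or_mem h).elim ha ha', a' • b + a • b', ?_⟩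
      rw [map_mul, TensorProduct.tmul_add, TensorProduct.tmul_smul, TensorProduct.tmul_smul, ← hb, ← hb',
        Algebra.smul_def, Algebra.smul_def]
      ring
  obtain ⟨a, ha, b, hb⟩ := hrep (1 - x * y)
  refine ⟨b, fun hbP => ?_, by rw [← hb, mul_assoc, mul_comm _ x, hxy, mul_zero]⟩
  have h1 := congrArg ρ hb
  rw [hρ, map_mul, AlgHom.commutes, map_sub, map_one, map_mul, hx, zero_mul, sub_zero, mul_one,
    Ideal.algebraMap_residueField_eq_zero.2 hbP, IsScalarTower.algebraMap_apply A B P.ResidueField,
    Ideal.algebraMap_residueField_eq_zero] at h1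
  exact ha (by rwa [P.over_def p, Ideal.under_def, Ideal.mem_comap])

/-- `κ(P)` is a localization of the fibre `κ(p) ⊗ B`. -/
theorem isLocalization_residueField [IsNoetherianRing B]
    (hB : ∀ s : Finset B, ∃ (E : Type u) (_ : CommRing E) (_ : Algebra A E) (φ : E →ₐ[A] B),
      Algebra.Etale A E ∧ ∀ x ∈ s, x ∈ φ.range)
    (p : Ideal A) [p.IsPrime] (P : Ideal B) [P.IsPrime] [P.LiesOver p]
    [Algebra (p.Fiber B) P.ResidueField] [IsScalarTower A (p.Fiber B) P.ResidueField]
    (hρ : ∀ b : B, algebraMap (p.Fiber B) P.ResidueField (1 ⊗ₜ b) = algebraMap B P.ResidueField b) :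
    IsLocalization (P.primeCompl.map (Algebra.TensorProduct.includeRight (R := A) (A := p.ResidueField) (B := B)))
      P.ResidueField := by
  constructor
  · constructor
    · rintro ⟨_, b, hb, rfl⟩
      show IsUnit (algebraMap (p.Fiber B) P.ResidueField (1 ⊗ₜ b))
      rw [hρ]
      exact IsUnit.mk0 _ fun h => hb (Ideal.algebraMap_residueField_eq_zero.1 h)
    · intro z
      obtain ⟨y, rfl⟩ := IsLocalRing.residue_surjective z
      obtain ⟨b, s, rfl⟩ := IsLocalization.exists_mk'_eq P.primeCompl y
      refine ⟨⟨1 ⊗ₜ b, ⟨_, (s : B), s.2, rfl⟩⟩, ?_⟩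
      show _ * algebraMap (p.Fiber B) P.ResidueField (1 ⊗ₜ (s : B)) = algebraMap (p.Fiber B) P.ResidueField (1 ⊗ₜ b)
      rw [hρ, hρ]
      show _ * IsLocalRing.residue _ (algebraMap B _ (s : B)) = IsLocalRing.residue _ (algebraMap B _ b)
      rw [← map_mul, IsLocalization.mk'_spec]
    · intro x y hxy
      obtain ⟨b, hb, h0⟩ := exists_ann hB p P (IsScalarTower.toAlgHom A _ _) hρ (x - y) (by
        rw [map_sub, sub_eq_zero]; exact hxy)
      exact ⟨⟨_, b, hb, rfl⟩, by rw [← sub_eq_zero, ← mul_sub]; exact h0⟩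

/-- `κ(P) ⊗_B C` is a localization of the fibre `κ(p) ⊗_A C`. -/
theorem isLocalization_fibre [IsNoetherianRing B]
    (hB : ∀ s : Finset B, ∃ (E : Type u) (_ : CommRing E) (_ : Algebra A E) (φ : E →ₐ[A] B),
      Algebra.Etale A E ∧ ∀ x ∈ s, x ∈ φ.range)
    (C : Type u) [CommRing C] [Algebra A C] [Algebra B C] [IsScalarTower A B C]
    (p : Ideal A) [p.IsPrime] (P : Ideal B) [P.IsPrime] [P.LiesOver p]
    [Algebra p.ResidueField P.ResidueField] [IsScalarTower A p.ResidueField P.ResidueField]
    [Algebra (p.Fiber C) (P.Fiber C)]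
    (hφ : ∀ (c : p.ResidueField) (z : C),
      algebraMap (p.Fiber C) (P.Fiber C) (c ⊗ₜ z) = algebraMap p.ResidueField P.ResidueField c ⊗ₜ z) :
    IsLocalization (P.primeCompl.map
      ((Algebra.TensorProduct.includeRight : C →ₐ[A] p.Fiber C).toRingHom.comp (algebraMap B C))) (P.Fiber C) := by
  let k := p.ResidueField
  let K := P.ResidueField
  let X := p.Fiber C
  let W := P.Fiber C
  let F := p.Fiber B
  let ρ : F →ₐ[A] K := Algebra.TensorProduct.lift (IsScalarTower.toAlgHom A k K) (IsScalarTower.toAlgHom A B K)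
    fun _ _ => Commute.all _ _
  have hρ : ∀ b : B, ρ (1 ⊗ₜ b) = algebraMap B K b := fun b => by
    show IsScalarTower.toAlgHom A k K 1 * IsScalarTower.toAlgHom A B K b = _
    rw [map_one, one_mul]; rfl
  letI : Algebra F K := ρ.toRingHom.toAlgebra
  have : IsScalarTower A F K := IsScalarTower.of_algebraMap_eq fun a => (ρ.commutes a).symm
  let MF : Submonoid F := P.primeCompl.map (Algebra.TensorProduct.includeRight (R := A) (A := k) (B := B))
  have hlocK : IsLocalization MF K := isLocalization_residueField hB p P hρ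
  let iC : C →+* X := (Algebra.TensorProduct.includeRight : C →ₐ[A] X).toRingHom
  let MX : Submonoid X := P.primeCompl.map (iC.comp (algebraMap B C))
  let ι : F →ₐ[A] X := Algebra.TensorProduct.map (AlgHom.id A k) (IsScalarTower.toAlgHom A B C)
  have hι : ∀ (c : k) (b : B), ι (c ⊗ₜ b) = c ⊗ₜ algebraMap B C b := fun c b => rfl
  have key : ∀ (L : Type u) [CommRing L] (g : X →+* L), (∀ m ∈ MX, IsUnit (g m)) →
      ∀ x y, algebraMap X W x = algebraMap X W y → g x = g y := by
    intro L _ g hg x y hxy
    have hu : ∀ y : MF, IsUnit ((g.comp ι.toRingHom) y) := by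
      rintro ⟨_, b, hb, rfl⟩
      exact hg _ ⟨b, hb, rfl⟩
    let ψK : K →+* L := IsLocalization.lift (M := MF) (S := K) hu
    have hψK : ∀ f : F, ψK (ρ f) = g (ι f) := fun f => IsLocalization.lift_eq hu f
    letI : Algebra B L := (g.comp (iC.comp (algebraMap B C))).toAlgebra
    have hψB : ∀ b : B, ψK (algebraMap B K b) = algebraMap B L b := fun b =>
      (congrArg ψK (hρ b)).symm.trans (hψK _)
    let ψ₁ : K →ₐ[B] L := { ψK with commutes' := hψB }
    let ψ₂ : C →ₐ[B] L := { g.comp iC with commutes' := fun b => rfl }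
    let ψ : W →ₐ[B] L := Algebra.TensorProduct.lift ψ₁ ψ₂ fun _ _ => Commute.all _ _
    have hψ : ∀ x : X, ψ (algebraMap X W x) = g x := fun x => by
      induction x using TensorProduct.induction_on with
      | zero => rw [map_zero, map_zero, map_zero]
      | add u v hu hv => rw [map_add, map_add, map_add, hu, hv]
      | tmul c z =>
        rw [hφ, Algebra.TensorProduct.lift_tmul]
        show ψK (algebraMap k K c) * g (1 ⊗ₜ z) = _
        have hc : ρ (c ⊗ₜ 1) = algebraMap k K c := by
          show algebraMap k K c * algebraMap B K 1 = _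
          rw [map_one, mul_one]
        rw [← hc, hψK, hι, map_one, ← map_mul, Algebra.TensorProduct.tmul_mul_tmul, mul_one, one_mul]
    rw [← hψ x, ← hψ y, hxy]
  constructor
  · constructor
    · rintro ⟨_, b, hb, rfl⟩
      show IsUnit (algebraMap X W (1 ⊗ₜ algebraMap B C b))
      rw [hφ, map_one]
      have h1 : ((1 : K) ⊗ₜ[B] algebraMap B C b : W) = algebraMap B K b ⊗ₜ 1 :=
        (Algebra.TensorProduct.tmul_one_eq_one_tmul b).symm
      rw [h1]
      exact (IsUnit.mk0 _ fun h => hb (Ideal.algebraMap_residueField_eq_zero.1 h)).map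
        (Algebra.TensorProduct.includeLeft : K →ₐ[B] W)
    · intro w
      induction w using TensorProduct.induction_on with
      | zero => exact ⟨⟨0, 1⟩, by rw [map_zero, zero_mul]⟩
      | tmul κ z =>
        obtain ⟨y, rfl⟩ := IsLocalRing.residue_surjective κ
        obtain ⟨b, s, rfl⟩ := IsLocalization.exists_mk'_eq P.primeCompl y
        refine ⟨⟨1 ⊗ₜ (algebraMap B C b * z), ⟨_, (s : B), s.2, rfl⟩⟩, ?_⟩
        show _ * algebraMap X W (1 ⊗ₜ algebraMap B C (s : B)) = algebraMap X W (1 ⊗ₜ (algebraMap B C b * z))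
        rw [hφ, hφ, map_one, Algebra.TensorProduct.tmul_mul_tmul, mul_one, mul_comm z, ← Algebra.smul_def,
          ← Algebra.smul_def, TensorProduct.tmul_smul, TensorProduct.tmul_smul, TensorProduct.smul_tmul',
          TensorProduct.smul_tmul']
        congr 1
        rw [Algebra.smul_def, Algebra.smul_def, mul_one]
        show IsLocalRing.residue _ (algebraMap B _ (s : B)) * _ = IsLocalRing.residue _ (algebraMap B _ b)
        rw [← map_mul, mul_comm, IsLocalization.mk'_spec]
      | add u v hu hv =>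
        obtain ⟨⟨x, s⟩, hx⟩ := hu
        obtain ⟨⟨y, t⟩, hy⟩ := hv
        refine ⟨⟨x * t + y * s, s * t⟩, ?_⟩
        rw [Submonoid.coe_mul, map_mul, map_add, map_mul, map_mul, ← hx, ← hy]
        ring
    · intro x y hxy
      exact (IsLocalization.eq_iff_exists MX (Localization MX)).1
        (key (Localization MX) (algebraMap X (Localization MX)) (fun m hm => IsLocalization.map_units _ (⟨m, hm⟩ : MX)) x y hxy)

/-- A regular map factors through an ind-étale algebra by a regular map. -/
theorem isRegularHom_of_indEtale [IsNoetherianRing B]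
    (hB : ∀ s : Finset B, ∃ (E : Type u) (_ : CommRing E) (_ : Algebra A E) (φ : E →ₐ[A] B),
      Algebra.Etale A E ∧ ∀ x ∈ s, x ∈ φ.range)
    (C : Type u) [CommRing C] [IsNoetherianRing C] [Algebra A C] [Algebra B C] [IsScalarTower A B C]
    [Module.Flat B C] (hAC : CAlg.IsRegularHom A C) : CAlg.IsRegularHom B C := by
  refine ⟨inferInstance, fun P _ => ⟨RegLocus.isNoetherianRing_fiber B C P, ?_⟩⟩
  let p := P.comap (algebraMap A B)
  have : P.LiesOver p := ⟨rfl⟩
  let _ := Localization.AtPrime.algebraOfLiesOver p P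
  let k := p.ResidueField
  let K := P.ResidueField
  have : IsScalarTower A k K := inferInstance
  have := isSeparable_residueField hB p P
  have : Algebra.FormallyEtale k K := Algebra.FormallyEtale.of_isSeparable k K
  let X := p.Fiber C
  let W := P.Fiber C
  let φ : X →ₐ[k] W := Algebra.TensorProduct.lift (Algebra.ofId k W)
    ((Algebra.TensorProduct.includeRight : C →ₐ[B] W).restrictScalars A) fun _ _ => Commute.all _ _
  letI : Algebra X W := φ.toRingHom.toAlgebra
  have : IsScalarTower k X W := IsScalarTower.of_algebraMap_eq fun c => (φ.commutes c).symm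
  have hφ : ∀ (c : k) (z : C), algebraMap X W (c ⊗ₜ z) = algebraMap k K c ⊗ₜ z := fun c z => by
    show (algebraMap k K c ⊗ₜ[B] (1 : C)) * ((1 : K) ⊗ₜ z) = _
    rw [Algebra.TensorProduct.tmul_mul_tmul, mul_one, one_mul]
  have hloc := isLocalization_fibre hB C p P hφ
  have hWg : CAlg.IsGeometricallyRegular k W := SymGr.isGeometricallyRegular_of_isLocalization
    (P.primeCompl.map ((Algebra.TensorProduct.includeRight : C →ₐ[A] X).toRingHom.comp (algebraMap B C))) (hAC.2 p).2
  have : IsNoetherianRing W := RegLocus.isNoetherianRing_fiber B C P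
  refine SymGr.isGeometricallyRegular_of_local K W fun Q _ => ?_
  have : IsNoetherianRing (Localization.AtPrime Q) := IsLocalization.isNoetherianRing Q.primeCompl _ inferInstance
  exact adicFS_of_formallyUnramified _ (SymGr.isAdicFormallySmooth_of_isGeometricallyRegular
    (SymGr.isGeometricallyRegular_of_isLocalization Q.primeCompl hWg))

end Groth.Agent.GRingHens
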