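import Mathlib
import Groth.Agent.GRingHens.Basic
import Groth.Agent.RegLocus.CplDescendHom
import Groth.Agent.CAlgGRing.Maximal
import Groth.Agent.CAlgGRing.FiniteType
import Groth.Agent.FormalFibreQF.QuasiFinite
import Groth.Agent.Hensel.CplEquiv
import Groth.Agent.Hensel.PairNoetherian
import Groth.Agent.Hensel.HenselizationAscent
import Groth.Agent.Hensel.Fibres
import Groth.Prelude.Def_Hens2

/-!
# Henselizations of G-rings are G-rings
-/

set_option autoImplicit false
universe u

open TensorProduct IsLocalRing

namespace Groth.Agent.GRingHens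

/-- Completion of the local ring at a maximal ideal. -/
theorem exists_cpl_atMaximal (R : Type u) [CommRing R] (m : Ideal R) [m.IsMaximal] :
    ∃ e : AdicCompletion m R ≃+* EGA4.Cpl (Localization.AtPrime m),
      ∀ r, e (AdicCompletion.of m R r) =
        AdicCompletion.of (maximalIdeal (Localization.AtPrime m)) _ (algebraMap R (Localization.AtPrime m) r) := by
  have hmap : ∀ n, (m ^ n).map (algebraMap R (Localization.AtPrime m)) = maximalIdeal (Localization.AtPrime m) ^ n :=
    fun n => by rw [Ideal.map_pow, Localization.AtPrime.map_eq_maximalIdeal]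
  refine Hensel.exists_completion_equiv m (maximalIdeal (Localization.AtPrime m)) hmap fun n => ?_
  have h := ((IsLocalization.AtPrime.equivQuotMaximalIdealPow m (Localization.AtPrime m) n).toRingEquiv.trans
    (Ideal.quotEquivOfEq (hmap n).symm)).bijective
  convert h using 1
  ext x
  obtain ⟨r, rfl⟩ := Ideal.Quotient.mk_surjective x
  rw [Ideal.quotientMap_mk]
  show _ = Ideal.quotEquivOfEq (hmap n).symm
    (IsLocalization.AtPrime.equivQuotMaximalIdealPow m (Localization.AtPrime m) n (Ideal.Quotient.mk _ r))
  rw [IsLocalization.AtPrime.equivQuotMaximalIdealPow_apply_mk]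
  rfl

/-- Regular homomorphisms are invariant under isomorphisms of the target. -/
theorem isRegularHom_of_equiv (A C C' : Type u) [CommRing A] [CommRing C] [CommRing C'] [IsNoetherianRing C]
    [IsNoetherianRing C'] [Algebra A C] [Algebra A C'] (e : C' ≃+* C)
    (he : ∀ a, e (algebraMap A C' a) = algebraMap A C a) (h : CAlg.IsRegularHom A C) : CAlg.IsRegularHom A C' := by
  letI : Algebra C' C := e.toRingHom.toAlgebra
  have : IsScalarTower A C' C := IsScalarTower.of_algebraMap_eq fun a => (he a).symm
  let e' : C' ≃ₗ[C'] C :=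
    { e.toAddEquiv with map_smul' := fun x y => map_mul e x y }
  have : Module.FaithfullyFlat C' C := Module.FaithfullyFlat.of_linearEquiv C' C' e'.symm
  exact RegLocus.isRegularHom_descend A C' C h

/-- A local ring at a maximal ideal of an ind-étale algebra with the completion of a G-ring. -/
theorem isRegularHom_cpl_of_indEtale (A B : Type u) [CommRing A] [CommRing B] [Algebra A B] [IsNoetherianRing B]
    (hA : CAlg.IsGRing A)
    (hB : ∀ s : Finset B, ∃ (E : Type u) (_ : CommRing E) (_ : Algebra A E) (φ : E →ₐ[A] B),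
      Algebra.Etale A E ∧ ∀ x ∈ s, x ∈ φ.range)
    (n : Ideal B) [n.IsMaximal] (m : Ideal A) [m.IsPrime]
    (e : EGA4.Cpl (Localization.AtPrime n) ≃+* EGA4.Cpl (Localization.AtPrime m))
    (he : ∀ a, e (algebraMap A _ a) = algebraMap A _ a) :
    CAlg.IsRegularHom (Localization.AtPrime n) (EGA4.Cpl (Localization.AtPrime n)) := by
  have := hA.1
  have : IsNoetherianRing (Localization.AtPrime n) := IsLocalization.isNoetherianRing n.primeCompl _ inferInstance
  have : IsNoetherianRing (Localization.AtPrime m) := IsLocalization.isNoetherianRing m.primeCompl _ inferInstance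
  obtain ⟨hN, hff, -⟩ := RegLocus.cpl_facts (Localization.AtPrime n)
  obtain ⟨hN', -, -⟩ := RegLocus.cpl_facts (Localization.AtPrime m)
  have := hN
  have := hN'
  have := hff
  have hAC := isRegularHom_of_equiv A (EGA4.Cpl (Localization.AtPrime m)) (EGA4.Cpl (Localization.AtPrime n)) e he
    (CAlgGRing.isRegularHom_cpl_localization A hA m)
  have : Module.Flat B (EGA4.Cpl (Localization.AtPrime n)) :=
    Module.Flat.trans B (Localization.AtPrime n) (EGA4.Cpl (Localization.AtPrime n))
  exact CAlgGRing.isRegularHom_localization_source B (Localization.AtPrime n) (EGA4.Cpl (Localization.AtPrime n))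
    n.primeCompl (isRegularHom_of_indEtale hB (EGA4.Cpl (Localization.AtPrime n)) hAC)

/-- The henselization of a pair in a G-ring is a G-ring. -/
theorem isGRing_pairHenselization (A : Type u) [CommRing A] (hA : CAlg.IsGRing A) (I : Ideal A)
    (B : Type u) [CommRing B] [Algebra A B] (hB : Hens2.IsPairHenselization A I B) : CAlg.IsGRing B := by
  have := hA.1
  have := Hensel.pairHenselization_isNoetherianRing hB
  obtain ⟨e0⟩ := Hensel.exists_algEquiv_hens_pair hB
  refine CAlgGRing.isGRing_of_maximal B fun n _ => ?_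
  have hIn : I.map (algebraMap A B) ≤ n := by
    refine hB.1.jac.trans ?_
    rw [Ideal.jacobson]
    exact sInf_le ⟨bot_le, ‹n.IsMaximal›⟩
  let m := n.comap (algebraMap A B)
  have happ : ∀ x : B, ∃ a, x - algebraMap A B a ∈ m.map (algebraMap A B) := fun x => by
    obtain ⟨a, ha⟩ := Hensel.pairHenselization_exists_sub_mem hB x
    exact ⟨a, Ideal.map_mono (Ideal.map_le_iff_le_comap.1 hIn) ha⟩
  have : m.IsMaximal := by
    let : Field (B ⧸ n) := Ideal.Quotient.field n
    have hs : Function.Surjective ((Ideal.Quotient.mk n).comp (algebraMap A B)) := fun y => by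
      obtain ⟨x, rfl⟩ := Ideal.Quotient.mk_surjective y
      obtain ⟨a, ha⟩ := happ x
      exact ⟨a, (Ideal.Quotient.eq.2 (Ideal.map_comap_le ha)).symm⟩
    have h := RingHom.ker_isMaximal_of_surjective _ hs
    rwa [← RingHom.comap_ker, Ideal.mk_ker] at h
  have hn : m.map (algebraMap A B) = n := by
    refine le_antisymm Ideal.map_comap_le fun x hx => ?_
    obtain ⟨a, ha⟩ := happ x
    have : algebraMap A B a ∈ n := by
      simpa using sub_mem hx (Ideal.map_comap_le ha)
    simpa using add_mem ha (Ideal.mem_map_of_mem (algebraMap A B) this)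
  have hpow : ∀ k, (m ^ k).map (algebraMap A B) = n ^ k := fun k => by rw [Ideal.map_pow, hn]
  have hbij : ∀ k, Function.Bijective (Ideal.quotientMap ((m ^ k).map (algebraMap A B)) (algebraMap A B)
      Ideal.le_comap_map) := by
    refine fun k => ⟨(injective_iff_map_eq_zero _).mpr fun x hx => ?_, fun y => ?_⟩
    · obtain ⟨a, rfl⟩ := Ideal.Quotient.mk_surjective x
      rw [Ideal.quotientMap_mk, Ideal.Quotient.eq_zero_iff_mem] at hx
      refine Ideal.Quotient.eq_zero_iff_mem.2 ?_
      have hIk : I ^ k ≤ m ^ k := Ideal.pow_right_mono (Ideal.map_le_iff_le_comap.1 hIn) k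
      have key : ∀ z ∈ (m ^ k).map (algebraMap A B), ∃ a₀ ∈ m ^ k, z - algebraMap A B a₀ ∈ (I ^ k).map (algebraMap A B) := by
        intro z hz
        refine Submodule.span_induction ?_ ⟨0, zero_mem _, by simp⟩ ?_ ?_ hz
        · rintro _ ⟨i, hi, rfl⟩
          exact ⟨i, hi, by simp⟩
        · rintro u v - - ⟨b, hb', hb⟩ ⟨c, hc', hc⟩
          exact ⟨b + c, add_mem hb' hc', by simpa [map_add, add_sub_add_comm] using add_mem hb hc⟩
        · rintro r u - ⟨b, hb', hb⟩
          obtain ⟨c, hc⟩ := Hensel.pairHenselization_exists_sub_mem_pow hB k r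
          refine ⟨c * b, Ideal.mul_mem_left _ _ hb', ?_⟩
          have e : r • u - algebraMap A B (c * b) =
              r * (u - algebraMap A B b) + (r - algebraMap A B c) * algebraMap A B b := by
            rw [map_mul, smul_eq_mul]; ring
          rw [e]
          exact add_mem (Ideal.mul_mem_left _ _ hb) (Ideal.mul_mem_right _ _ hc)
      obtain ⟨a₀, ha₀, h₀⟩ := key _ hx
      rw [← map_sub] at h₀
      simpa using add_mem (hIk ((Hensel.pairHenselization_algebraMap_mem_pow_iff hB _ _).1 h₀)) ha₀
    · obtain ⟨y, rfl⟩ := Ideal.Quotient.mk_surjective y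
      obtain ⟨a, ha⟩ := Hensel.exists_sub_mem_pow happ k y
      exact ⟨Ideal.Quotient.mk _ a, by rw [Ideal.quotientMap_mk]; exact (Ideal.Quotient.eq.mpr ha).symm⟩
  obtain ⟨e1, h1⟩ := exists_cpl_atMaximal A m
  obtain ⟨e2, h2⟩ := exists_cpl_atMaximal B n
  obtain ⟨e3, h3⟩ := Hensel.exists_completion_equiv m n hpow hbij
  refine isRegularHom_cpl_of_indEtale A B hA (fun s => Hensel.exists_etale_range_of_algEquiv e0 s) n m
    ((e2.symm.trans e3.symm).trans e1) fun a => ?_
  show e1 (e3.symm (e2.symm (AdicCompletion.of _ _ (algebraMap A (Localization.AtPrime n) a)))) =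
    AdicCompletion.of _ _ (algebraMap A (Localization.AtPrime m) a)
  rw [IsScalarTower.algebraMap_apply A B (Localization.AtPrime n), ← h2, RingEquiv.symm_apply_apply, ← h3,
    RingEquiv.symm_apply_apply, h1]

/-- The henselization of a local G-ring is a G-ring. -/
theorem isGRing_henselization (R S : Type u) [CommRing R] [IsLocalRing R] [CommRing S] [IsLocalRing S]
    [Algebra R S] [IsLocalHom (algebraMap R S)] [Hensel.IsHenselization R S] (hR : CAlg.IsGRing R) : CAlg.IsGRing S := by
  have := hR.1
  have : IsNoetherianRing S := Hensel.henselization_isNoetherianRing (R := R)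
  obtain ⟨e0⟩ := Hensel.exists_algEquiv_hens (R := R) (S := S)
  obtain ⟨ec⟩ := Hensel.henselization_cpl_equiv (R := R) (S := S)
  refine CAlgGRing.isGRing_of_maximal S fun n _ => ?_
  obtain rfl : n = maximalIdeal S := IsLocalRing.eq_maximalIdeal ‹_›
  obtain ⟨e1, h1⟩ := exists_cpl_atMaximal R (maximalIdeal R)
  obtain ⟨e2, h2⟩ := exists_cpl_atMaximal S (maximalIdeal S)
  refine isRegularHom_cpl_of_indEtale R S hR (fun s => Hensel.exists_etale_range_of_algEquiv e0 s) (maximalIdeal S)
    (maximalIdeal R) ((e2.symm.trans ec.symm.toRingEquiv).trans e1) fun a => ?_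
  show e1 (ec.symm (e2.symm (AdicCompletion.of _ _ (algebraMap R (Localization.AtPrime (maximalIdeal S)) a)))) =
    AdicCompletion.of _ _ (algebraMap R (Localization.AtPrime (maximalIdeal R)) a)
  rw [IsScalarTower.algebraMap_apply R S (Localization.AtPrime (maximalIdeal S)), ← h2, RingEquiv.symm_apply_apply,
    ← h1]
  exact congrArg e1 (ec.symm.commutes a)

end Groth.Agent.GRingHens
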