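import Mathlib
import Groth.Agent.GRingHens.Main
import Groth.Agent.CAlgGRing.IdealCpl
import Groth.Agent.FormalFibreQF.Quotient
import Groth.Agent.SymGr.CharZeroFibre
import Groth.Agent.SymGr.PowerSeriesReg
import Groth.Agent.Hensel.DirectLim
import Groth.Agent.Hensel.Henselization

/-!
# A henselian local ring is a directed colimit of henselian local G-rings
-/

set_option autoImplicit false
universe u

open TensorProduct IsLocalRing

namespace Groth.Agent.GRingHens

/-- Generic formal fibre of a regular local domain of characteristic zero. -/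
theorem geomRegular_generic_charZero (T : Type u) [CommRing T] [IsRegularLocalRing T] [IsDomain T] [CharZero T] :
    CAlg.IsGeometricallyRegular (⊥ : Ideal T).ResidueField ((⊥ : Ideal T).Fiber (EGA4.Cpl T)) := by
  obtain ⟨hN, -, -⟩ := RegLocus.cpl_facts T
  have := hN
  let K := (⊥ : Ideal T).ResidueField
  let W := (⊥ : Ideal T).Fiber (EGA4.Cpl T)
  have : CharZero K := charZero_of_injective_algebraMap (IsFractionRing.injective T K)
  have : IsRegularLocalRing (EGA4.Cpl T) := (CAlgCompl.isRegularLocalRing_adicCompletion_iff _).1 inferInstance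
  have : IsRegularRing (EGA4.Cpl T) := RegLocus.isRegularRing_of_regular_local _
  let _ : Algebra (EGA4.Cpl T) W := Algebra.TensorProduct.rightAlgebra
  have : IsLocalization (Algebra.algebraMapSubmonoid (EGA4.Cpl T) (nonZeroDivisors T)) W :=
    IsLocalization.tensorRight (A := K) (S := EGA4.Cpl T) (nonZeroDivisors T)
  have : IsRegularRing W :=
    SymGr.isRegularRing_of_isLocalization (Algebra.algebraMapSubmonoid (EGA4.Cpl T) (nonZeroDivisors T))
  refine SymGr.isGeometricallyRegular_of_local K W fun P _ => ?_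
  have : IsRegularLocalRing (Localization.AtPrime P) := (isRegularRing_iff.1 ‹IsRegularRing W›) P
  exact SymGr.isAdicFormallySmooth_of_regular_perfect

/-- Localizations of G-rings are G-rings. -/
theorem isGRing_localization (R : Type u) [CommRing R] (hR : CAlg.IsGRing R) (m : Ideal R) [m.IsPrime] :
    CAlg.IsGRing (Localization.AtPrime m) := by
  have := hR.1
  refine ⟨IsLocalization.isNoetherianRing m.primeCompl _ inferInstance, fun P _ => ?_⟩
  let q := P.comap (algebraMap R (Localization.AtPrime m))
  have : IsLocalization.AtPrime (Localization.AtPrime P) q :=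
    IsLocalization.isLocalization_isLocalization_atPrime_isLocalization m.primeCompl (T := Localization.AtPrime P) P
  have : IsNoetherianRing (Localization.AtPrime q) := IsLocalization.isNoetherianRing q.primeCompl _ inferInstance
  exact FormalFibreQF.isRegularHom_cpl_of_ringEquiv
    (IsLocalization.algEquiv q.primeCompl (Localization.AtPrime q) (Localization.AtPrime P)).toRingEquiv (hR.2 q)

/-- A principal ideal domain of characteristic zero is a G-ring. -/
theorem isGRing_pid_charZero (R : Type u) [CommRing R] [IsDomain R] [IsPrincipalIdealRing R] [CharZero R] :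
    CAlg.IsGRing R := by
  refine (FormalFibreQF.isGRing_iff_generic R).2 fun q _ P _ => ?_
  by_cases hq : q = ⊥
  · subst hq
    have : IsPrincipalIdealRing (R ⧸ (⊥ : Ideal R)) :=
      IsPrincipalIdealRing.of_surjective (Ideal.Quotient.mk (⊥ : Ideal R)) Ideal.Quotient.mk_surjective
    have hinj : Function.Injective (algebraMap R (R ⧸ (⊥ : Ideal R))) :=
      (RingEquiv.quotientBot R).symm.injective
    have : CharZero (R ⧸ (⊥ : Ideal R)) := charZero_of_injective_algebraMap hinj
    have : IsRegularRing (R ⧸ (⊥ : Ideal R)) := inferInstance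
    have : IsRegularLocalRing (Localization.AtPrime P) := (isRegularRing_iff.1 ‹IsRegularRing _›) P
    have : CharZero (Localization.AtPrime P) := charZero_of_injective_algebraMap
      (IsLocalization.injective (Localization.AtPrime P) P.primeCompl_le_nonZeroDivisors)
    exact geomRegular_generic_charZero (Localization.AtPrime P)
  · have : q.IsMaximal := IsPrime.to_maximal_ideal hq
    let : Field (R ⧸ q) := Ideal.Quotient.field q
    have : IsAdicComplete (maximalIdeal (R ⧸ q)) (R ⧸ q) := by
      rw [IsLocalRing.maximalIdeal_eq_bot]; exact IsAdicComplete.bot _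
    exact ((CAlgGRing.isGRing_of_complete (R ⧸ q)).2 P).2 ⊥ |>.2

theorem isGRing_ulift_int : CAlg.IsGRing (ULift.{u} ℤ) := by
  have : IsDomain (ULift.{u} ℤ) :=
    Function.Injective.isDomain (ULift.ringEquiv : ULift.{u} ℤ ≃+* ℤ).toRingHom ULift.ringEquiv.injective
  have : IsPrincipalIdealRing (ULift.{u} ℤ) :=
    IsPrincipalIdealRing.of_surjective (ULift.ringEquiv : ULift.{u} ℤ ≃+* ℤ).symm.toRingHom ULift.ringEquiv.symm.surjective
  have : CharZero (ULift.{u} ℤ) :=
    charZero_of_injective_ringHom (f := (ULift.ringEquiv : ULift.{u} ℤ ≃+* ℤ).symm.toRingHom) ULift.ringEquiv.symm.injective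
  exact isGRing_pid_charZero _

section colimit

variable (A : Type u) [CommRing A] [HenselianLocalRing A] [Algebra (ULift.{u} ℤ) A]

noncomputable abbrev stage (i : Finset A) : Subalgebra (ULift.{u} ℤ) A := Algebra.adjoin (ULift.{u} ℤ) (i : Set A)

noncomputable abbrev stageIdeal (i : Finset A) : Ideal (stage A i) := (maximalIdeal A).comap (stage A i).val

noncomputable abbrev locStage (i : Finset A) : Type u := Localization.AtPrime (stageIdeal A i)

noncomputable abbrev hensStage (i : Finset A) : Type u := Hensel.Hens (locStage A i) (ResidueField (locStage A i))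

theorem isGRing_hensStage (i : Finset A) : CAlg.IsGRing (hensStage A i) := by
  have : Algebra.FiniteType (ULift.{u} ℤ) (stage A i) :=
    (Subalgebra.fg_iff_finiteType _).1 (Subalgebra.fg_adjoin_finset i)
  exact isGRing_henselization (locStage A i) (hensStage A i)
    (isGRing_localization _ (CAlgGRing.isGRing_finiteType _ isGRing_ulift_int (stage A i)) _)

theorem isUnit_of_notMem {i : Finset A} (x : (stageIdeal A i).primeCompl) : IsUnit ((x : stage A i) : A) :=
  notMem_maximalIdeal.1 x.2

theorem exists_system_aux (R : Finset A → Type u) [∀ i, CommRing (R i)] [∀ i, IsLocalRing (R i)]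
    [∀ i, Algebra (stage A i) (R i)] [∀ i, IsLocalization.AtPrime (R i) (stageIdeal A i)]
    (H : Finset A → Type u) [∀ i, CommRing (H i)] [∀ i, IsLocalRing (H i)] [∀ i, Algebra (R i) (H i)]
    [∀ i, IsLocalHom (algebraMap (R i) (H i))] [hHi : ∀ i, _root_.Hensel.IsHenselization (R i) (H i)]
    (hG : ∀ i, CAlg.IsGRing (H i)) : ∃ (ι : Type u) (_ : Preorder ι) (_ : IsDirectedOrder ι) (_ : Nonempty ι) (G : ι → Type u)
      (_ : ∀ i, CommRing (G i)) (f : ∀ i j : ι, i ≤ j → (G i →+* G j))
      (_ : DirectedSystem G (fun i j h => f i j h)),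
      (∀ i, HenselianLocalRing (G i) ∧ CAlg.IsGRing (G i)) ∧
      (∀ (i j : ι) (h : i ≤ j), IsLocalHom (f i j h)) ∧
      Nonempty (A ≃+* DirectLimit G f) := by
  classical
  have hH : ∀ i, HenselianLocalRing ((H i)) := fun i => (hHi i).henselian
  let ρ : ∀ i, (R i) →+* A := fun i =>
    IsLocalization.lift (M := (stageIdeal A i).primeCompl) (g := ((stage A i)).val.toRingHom) (isUnit_of_notMem A)
  have hρ : ∀ i (x : (stage A i)), ρ i (algebraMap ((stage A i)) ((R i)) x) = (x : A) := fun i x => IsLocalization.lift_eq _ x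
  have hρl : ∀ i, IsLocalHom (ρ i) := fun i => ⟨fun x hx => by
    obtain ⟨b, s, rfl⟩ := IsLocalization.exists_mk'_eq (stageIdeal A i).primeCompl x
    refine (IsLocalization.AtPrime.isUnit_mk'_iff ((R i)) (stageIdeal A i) b s).2 fun hb => ?_
    have h1 : ρ i (IsLocalization.mk' ((R i)) b s) * ((s : (stage A i)) : A) = (b : A) := by
      rw [← hρ i s, ← hρ i b, ← map_mul, IsLocalization.mk'_spec]
    exact (mem_maximalIdeal (b : A)).1 hb (h1 ▸ hx.mul (isUnit_of_notMem A s))⟩
  have hex : ∀ i, ∃ g : (H i) →+* A, g.comp (algebraMap ((R i)) ((H i))) = ρ i ∧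
      ∀ g' : (H i) →+* A, g'.comp (algebraMap ((R i)) ((H i))) = ρ i → g' = g := fun i => by
    obtain ⟨g, hg, hu⟩ := (hHi i).universal A (ρ i) (hρl i)
    exact ⟨g, hg, hu⟩
  choose g hg hgu using hex
  have hgl : ∀ i, IsLocalHom (g i) := fun i => ⟨fun x hx => by
    by_contra h
    have hmem : x ∈ (maximalIdeal ((R i))).map (algebraMap ((R i)) ((H i))) :=
      (Hensel.henselization_map_maximalIdeal (R := (R i)) (S := (H i))).ge ((mem_maximalIdeal x).2 h)
    have h2 : ((maximalIdeal ((R i))).map (algebraMap ((R i)) ((H i)))).map (g i) ≤ maximalIdeal A := by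
      rw [Ideal.map_map, hg, Ideal.map_le_iff_le_comap]
      intro r hr
      exact (mem_maximalIdeal _).2 fun hu => (mem_maximalIdeal r).1 hr ((hρl i).map_nonunit r hu)
    exact (mem_maximalIdeal _).1 (h2 (Ideal.mem_map_of_mem _ hmem)) hx⟩
  obtain ⟨inc, hinc⟩ : ∃ inc : ∀ i j : Finset A, i ≤ j → (stage A i →+* stage A j),
      ∀ i j (h : i ≤ j) (x : stage A i), ((inc i j h x : stage A j) : A) = (x : A) :=
    ⟨fun i j h => (Subalgebra.inclusion (Algebra.adjoin_mono (Finset.coe_subset.2 h))).toRingHom,
      fun i j h x => Subalgebra.coe_inclusion _ x⟩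
  have hincu : ∀ i j (h : i ≤ j) (y : stage A i), y ∈ (stageIdeal A i).primeCompl →
      inc i j h y ∈ (stageIdeal A j).primeCompl := fun i j h y hy hmem => hy (by
    rw [SetLike.mem_coe, Ideal.mem_comap] at hmem ⊢
    rwa [show (stage A j).val (inc i j h y) = (stage A i).val y from hinc i j h y] at hmem)
  let t : ∀ i j, i ≤ j → ((R i) →+* (R j)) := fun i j h =>
    IsLocalization.map (M := (stageIdeal A i).primeCompl) (T := (stageIdeal A j).primeCompl) (R j) (inc i j h)
      fun y hy => hincu i j h y hy
  have ht : ∀ i j (h : i ≤ j) (x : (stage A i)), t i j h (algebraMap _ _ x) = algebraMap ((stage A j)) ((R j)) (inc i j h x) :=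
    fun i j h x => IsLocalization.map_eq _ x
  have hρt : ∀ i j (h : i ≤ j), (ρ j).comp (t i j h) = ρ i := fun i j h =>
    IsLocalization.ringHom_ext (stageIdeal A i).primeCompl (RingHom.ext fun x => by
      show ρ j (t i j h (algebraMap _ _ x)) = ρ i (algebraMap _ _ x)
      rw [ht i j h, hρ, hρ, hinc i j h])
  have htl : ∀ i j (h : i ≤ j), IsLocalHom (t i j h) := fun i j h => ⟨fun x hx => (hρl i).map_nonunit x (by
    rw [← hρt i j h]; exact hx.map (ρ j))⟩
  have hfex : ∀ i j (h : i ≤ j), ∃ φ : (H i) →+* (H j),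
      φ.comp (algebraMap ((R i)) ((H i))) = (algebraMap ((R j)) ((H j))).comp (t i j h) ∧
      ∀ φ' : (H i) →+* (H j), φ'.comp (algebraMap ((R i)) ((H i))) = (algebraMap ((R j)) ((H j))).comp (t i j h) → φ' = φ := by
    intro i j h
    have := hH j
    have := htl i j h
    obtain ⟨φ, hφ, hu⟩ := (hHi i).universal ((H j))
      ((algebraMap ((R j)) ((H j))).comp (t i j h)) (RingHom.isLocalHom_comp _ _)
    exact ⟨φ, hφ, hu⟩
  choose f hf hfu using hfex
  have hfB : ∀ i j (h : i ≤ j) (x : (stage A i)), f i j h (algebraMap ((R i)) ((H i)) (algebraMap _ _ x)) =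
      algebraMap ((R j)) ((H j)) (algebraMap _ _ (inc i j h x)) := fun i j h x => by
    rw [← RingHom.comp_apply, hf i j h, RingHom.comp_apply, ht i j h]
  have hsys : DirectedSystem H fun i j h => f i j h := by
    constructor
    · intro i x
      have : RingHom.id ((H i)) = f i i le_rfl := hfu i i le_rfl _ (IsLocalization.ringHom_ext (stageIdeal A i).primeCompl
        (RingHom.ext fun x => by
          show algebraMap ((R i)) ((H i)) (algebraMap _ _ x) = algebraMap ((R i)) ((H i)) (t i i le_rfl (algebraMap _ _ x))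
          rw [ht i i le_rfl, show inc i i le_rfl x = x from Subtype.ext (hinc i i le_rfl x)]))
      exact (RingHom.congr_fun this x).symm
    · intro k j i hij hjk x
      refine RingHom.congr_fun (hfu i k (hij.trans hjk) ((f j k hjk).comp (f i j hij)) ?_) x
      refine IsLocalization.ringHom_ext (stageIdeal A i).primeCompl (RingHom.ext fun x => ?_)
      show f j k hjk (f i j hij (algebraMap ((R i)) ((H i)) (algebraMap _ _ x))) =
        algebraMap ((R k)) ((H k)) (t i k (hij.trans hjk) (algebraMap _ _ x))
      rw [hfB i j hij, hfB j k hjk, ht i k (hij.trans hjk), show inc j k hjk (inc i j hij x) = inc i k (hij.trans hjk) x from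
        Subtype.ext (by rw [hinc, hinc, hinc])]
  have hgf : ∀ i j (h : i ≤ j), (g j).comp (f i j h) = g i := fun i j h => hgu i _ (by
    refine IsLocalization.ringHom_ext (stageIdeal A i).primeCompl (RingHom.ext fun x => ?_)
    show g j (f i j h (algebraMap ((R i)) ((H i)) (algebraMap _ _ x))) = ρ i (algebraMap _ _ x)
    rw [hfB i j h, ← RingHom.comp_apply (g j), hg, hρ, hρ, hinc i j h])
  have hfl : ∀ i j (h : i ≤ j), IsLocalHom (f i j h) := fun i j h => ⟨fun x hx => (hgl i).map_nonunit x (by
    rw [← hgf i j h]; exact hx.map (g j))⟩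
  let L := DirectLimit H f
  let o : ∀ i, (H i) →+* L := fun i => DirectLimit.Ring.of H f i
  have ho : ∀ i j (h : i ≤ j) x, o j (f i j h x) = o i x := fun i j h x => Hensel.of_map f h x
  let J : Ideal L := ⨆ i, (maximalIdeal ((H i))).map (o i)
  have hJ' : ∀ i j (h : i ≤ j), (maximalIdeal ((H i))).map (f i j h) ≤ maximalIdeal ((H j)) := fun i j h => by
    rw [Ideal.map_le_iff_le_comap]
    exact fun x hx => (mem_maximalIdeal _).2 fun hu => (mem_maximalIdeal x).1 hx ((hfl i j h).map_nonunit x hu)
  have hJ1 : ∀ x ∈ J, ¬ IsUnit x := by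
    intro x hx hu
    obtain ⟨i, y, hy, hyx⟩ := Hensel.exists_mem_of_mem_iSup f (fun i => maximalIdeal ((H i))) hJ' hx
    obtain ⟨z, hz⟩ := hu.exists_left_inv
    obtain ⟨j, w, rfl⟩ := Hensel.exists_of f z
    obtain ⟨k, hik, hjk⟩ := exists_ge_ge i j
    have e : o k (f j k hjk w * f i k hik y) = o k 1 := by
      rw [map_mul, ho, ho, map_one, show o i y = x from hyx]; exact hz
    obtain ⟨l, hkl, hl⟩ := Hensel.of_eq_of f e
    rw [map_mul, map_one] at hl
    have h1 : f k l hkl (f i k hik y) ∈ maximalIdeal ((H l)) :=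
      hJ' k l hkl (Ideal.mem_map_of_mem _ (hJ' i k hik (Ideal.mem_map_of_mem _ hy)))
    exact (mem_maximalIdeal _).1 h1 (isUnit_iff_exists_inv'.2 ⟨_, hl⟩)
  have : Nontrivial L := ⟨⟨0, 1, fun h => hJ1 0 (zero_mem _) (h ▸ isUnit_one)⟩⟩
  have : IsLocalRing L := IsLocalRing.of_isUnit_or_isUnit_one_sub_self fun x => by
    obtain ⟨i, y, rfl⟩ := Hensel.exists_of f x
    rcases IsLocalRing.isUnit_or_isUnit_one_sub_self y with h | h
    · exact Or.inl (h.map (o i))
    · exact Or.inr (by rw [← map_one (o i), ← map_sub]; exact h.map (o i))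
  have hJm : J = maximalIdeal L := by
    refine le_antisymm (fun x hx => (mem_maximalIdeal x).2 (hJ1 x hx)) fun x hx => ?_
    obtain ⟨i, y, rfl⟩ := Hensel.exists_of f x
    exact le_iSup (fun i => (maximalIdeal ((H i))).map (o i)) i
      (Ideal.mem_map_of_mem _ ((mem_maximalIdeal y).2 fun hu => (mem_maximalIdeal _).1 hx (hu.map _)))
  have hHR : HenselianRing L J := Hensel.henselianRing_directLimit f (fun i => maximalIdeal ((H i))) hJ'
    fun i => have := hH i; inferInstance
  have hL : HenselianLocalRing L :=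
    { is_henselian := fun F hF a₀ h1 h2 => by
        rw [← hJm] at h1 ⊢
        exact hHR.is_henselian F hF a₀ h1 (h2.map _) }
  have hol : ∀ i, IsLocalHom (o i) := fun i => ⟨fun y hy => by
    by_contra h
    exact hJ1 _ (le_iSup (fun i => (maximalIdeal ((H i))).map (o i)) i
      (Ideal.mem_map_of_mem _ ((mem_maximalIdeal y).2 h))) hy⟩
  let emb : ∀ i, (stage A i) →+* L := fun i => (o i).comp ((algebraMap ((R i)) ((H i))).comp (algebraMap ((stage A i)) ((R i))))
  have hemb : ∀ i j (h : i ≤ j) x, emb j (inc i j h x) = emb i x := fun i j h x => by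
    show o j (algebraMap _ _ (algebraMap _ _ (inc i j h x))) = o i (algebraMap _ _ (algebraMap _ _ x))
    rw [← hfB i j h, ho i j h]
  let sfun : A → L := fun a => emb {a} ⟨a, Algebra.subset_adjoin (Finset.mem_coe.2 (Finset.mem_singleton_self a))⟩
  have hsfun : ∀ i (x : (stage A i)), sfun (x : A) = emb i x := fun i x => by
    obtain ⟨k, hk1, hk2⟩ := exists_ge_ge i ({(x : A)} : Finset A)
    rw [← hemb i k hk1 x]
    exact (hemb {(x : A)} k hk2 _).symm.trans (congrArg (emb k) (Subtype.ext (by rw [hinc, hinc])))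
  let s : A →+* L :=
    { toFun := sfun
      map_one' := (hsfun ∅ 1).trans (map_one _)
      map_zero' := (hsfun ∅ 0).trans (map_zero _)
      map_mul' := fun a b => by
        let i : Finset A := {a, b}
        let a' : (stage A i) := ⟨a, Algebra.subset_adjoin (by simp [i])⟩
        let b' : (stage A i) := ⟨b, Algebra.subset_adjoin (by simp [i])⟩
        show sfun ((a' * b' : (stage A i)) : A) = sfun (a' : A) * sfun (b' : A)
        rw [hsfun, hsfun, hsfun, map_mul]
      map_add' := fun a b => by
        let i : Finset A := {a, b}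
        let a' : (stage A i) := ⟨a, Algebra.subset_adjoin (by simp [i])⟩
        let b' : (stage A i) := ⟨b, Algebra.subset_adjoin (by simp [i])⟩
        show sfun ((a' + b' : (stage A i)) : A) = sfun (a' : A) + sfun (b' : A)
        rw [hsfun, hsfun, hsfun, map_add] }
  have hos : ∀ i, s.comp (g i) = o i := fun i => by
    have := hol i
    have h1 : IsLocalHom ((o i).comp (algebraMap ((R i)) ((H i)))) := RingHom.isLocalHom_comp _ _
    obtain ⟨φ, -, hu⟩ := (hHi i).universal L
      ((o i).comp (algebraMap ((R i)) ((H i)))) h1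
    refine (hu _ ?_).trans (hu _ rfl).symm
    refine IsLocalization.ringHom_ext (stageIdeal A i).primeCompl (RingHom.ext fun x => ?_)
    show sfun (g i (algebraMap ((R i)) ((H i)) (algebraMap _ _ x))) = emb i x
    rw [← RingHom.comp_apply (g i), hg, hρ, hsfun]
  let G : L →+* A := DirectLimit.Ring.lift H f A g fun i j h x => RingHom.congr_fun (hgf i j h) x
  have hGo : ∀ i x, G (o i x) = g i x := fun i x => rfl
  have hbij : Function.Bijective G := by
    refine ⟨fun x y hxy => ?_, fun a => ?_⟩
    · have key : ∀ z : L, s (G z) = z := fun z => by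
        obtain ⟨i, w, rfl⟩ := Hensel.exists_of f z
        show s (G (o i w)) = o i w
        rw [hGo]; exact RingHom.congr_fun (hos i) w
      rw [← key x, ← key y, hxy]
    · refine ⟨o {a} (algebraMap ((R {a})) ((H {a})) (algebraMap _ _
        (⟨a, Algebra.subset_adjoin (Finset.mem_coe.2 (Finset.mem_singleton_self a))⟩ : (stage A {a})))), ?_⟩
      rw [hGo, ← RingHom.comp_apply (g _), hg, hρ]
  exact ⟨Finset A, inferInstance, inferInstance, inferInstance, H, inferInstance, f, hsys,
    fun i => ⟨hH i, hG i⟩, hfl, ⟨(RingEquiv.ofBijective G hbij).symm⟩⟩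

theorem exists_system : ∃ (ι : Type u) (_ : Preorder ι) (_ : IsDirectedOrder ι) (_ : Nonempty ι) (G : ι → Type u)
      (_ : ∀ i, CommRing (G i)) (f : ∀ i j : ι, i ≤ j → (G i →+* G j))
      (_ : DirectedSystem G (fun i j h => f i j h)),
      (∀ i, HenselianLocalRing (G i) ∧ CAlg.IsGRing (G i)) ∧
      (∀ (i j : ι) (h : i ≤ j), IsLocalHom (f i j h)) ∧
      Nonempty (A ≃+* DirectLimit G f) :=
  exists_system_aux A (locStage A) (hensStage A) (hHi := fun i => Hensel.isHenselization_hens_residueField (locStage A i))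
    (isGRing_hensStage A)

end colimit

end Groth.Agent.GRingHens
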